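/-
The stabiliser of a point of the configuration of 275 vectors is PSU(4, 3).
-/
import Cfsg.Agent.Lib.McLPoint.Data
import Cfsg.Agent.Lib.Leech.McLRank
import Cfsg.Agent.Lib.Leech.McLModel
import Cfsg.Agent.Lib.U43Mult.Group

set_option autoImplicit false
set_option maxRecDepth 30000
set_option maxHeartbeats 1000000
set_option linter.style.haveILetI false

namespace CfsgLib.McLPoint

open Equiv Cfsg CfsgPC CfsgGolay CfsgLeech CfsgLeech.Models
open scoped Pointwise

theorem lifts_ok : ((List.range 2).all fun j =>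
    isPerm 275 (lifts.getD j (0, 0)).1 (lifts.getD j (0, 0)).2 && sift 275 mclChain (lifts.getD j (0, 0)).1 &&
      Nat.beq (ap (lifts.getD j (0, 0)).1 0) 0 &&
      (List.range 280).all fun i => (lines.getD i []).all fun k =>
        (lines.getD (ap (U43Mult.gens.getD j (0, 0)).1 i) []).contains (ap (lifts.getD j (0, 0)).1 k)) = true := by
  decide +kernel

theorem lines_ok : ((List.range 280).all fun i =>
    Nat.beq (lines.getD i []).length 4 && decide (lines.getD i []).Nodup &&
      (lines.getD i []).all (fun k => Nat.blt k 275) &&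
      (List.range i).all fun j => !((lines.getD i []).all fun k => (lines.getD j []).contains k)) = true := by
  decide +kernel

theorem point0 : (∀ i, vecN (mclPts.getD 0 (0, 0)).1 i = xStd i) ∧
    (∀ i, vecN (mclPts.getD 0 (0, 0)).2 i = xStd i) ∧ inLatB (vecN (mclPts.getD 0 (0, 0)).1) = true ∧
    inLatB (vecN (mclPts.getD 0 (0, 0)).2) = true := by
  decide +kernel

attribute [local irreducible] codeL octadL dodecadL slpCodes mclPts mclWords mclCodes mclCodesInv mclFixed mclPaths0
  mclPaths1 mclPaths2 mclSlp mclChain vecN lifts lines U43Mult.gens U43Mult.chain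

/-- The standard pair stabiliser. -/
abbrev StabUA : Subgroup ↥Co0 :=
  MulAction.stabilizer ↥Co0 (⟨uStd, uStd_mem⟩ : ↥leechLattice) ⊓
    MulAction.stabilizer ↥Co0 (⟨aStd, aStd_mem⟩ : ↥leechLattice)

/-- The standard point stabiliser. -/
abbrev StabX : Subgroup ↥Co0 := StabUA ⊓ MulAction.stabilizer ↥Co0 (⟨xStd, xStd_mem⟩ : ↥leechLattice)

/-- Each member of the group of the codes comes from the pair stabiliser. -/
theorem lift_mem {p : Perm (Fin 275)} (hp : p ∈ genG 275 mclRigid.gens) :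
    ∃ g ∈ StabUA, ∀ i : Fin 275, g • pairSet mclPts (i : ℕ) = pairSet mclPts (p i : ℕ) := by
  have hmem := slp_sound (n := 275) (by norm_num) (genG 275 mclCodes) mclSlp mclCodes mclRigid.gens mcl_slp fun c hc => by
    obtain ⟨g, hg⟩ := mcl_valid c hc
    exact ⟨g, Subgroup.subset_closure ⟨c, hc, hg⟩, hg⟩
  have hsub : genG 275 mclRigid.gens ≤ genG 275 mclCodes := by
    refine (Subgroup.closure_le _).mpr ?_
    rintro g ⟨c, hc, hg⟩
    obtain ⟨h, hh, hhr⟩ := hmem c hc
    exact hg.unique hhr ▸ hh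
  obtain ⟨-, hact⟩ := gens_act (H := StabUA) (n := 275) mcl_len (words := mclWords) (codes := mclCodes) mcl_pts_ok
    mcl_vs_ok
    (fun g hg => by
      obtain ⟨h0, h1⟩ := mcl_vs_eq
      have e0 : vecL (mclVs.getD 0 0) = ⟨uStd, uStd_mem⟩ := Subtype.ext (by
        rw [vecL_coe (List.all_eq_true.mp mcl_vs_ok _ (by simp [mclVs]))]; exact funext h0)
      have e1 : vecL (mclVs.getD 1 0) = ⟨aStd, aStd_mem⟩ := Subtype.ext (by
        rw [vecL_coe (List.all_eq_true.mp mcl_vs_ok _ (by simp [mclVs]))]; exact funext h1)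
      have g0 := hg (mclVs.getD 0 0) (by simp [mclVs])
      have g1 := hg (mclVs.getD 1 0) (by simp [mclVs])
      rw [e0] at g0
      rw [e1] at g1
      exact ⟨g0, g1⟩)
    (fun c hc => by
      obtain ⟨a, ha, rfl⟩ := List.getElem_of_mem hc
      have ha3 : a < 3 := by rw [mcl_len2.2] at ha; exact ha
      have hw : mclWords.getD a [] ∈ mclWords := by
        rw [List.getD_eq_getElem _ _ (mcl_len2.1.symm ▸ ha3)]; exact List.getElem_mem _
      rw [← List.getD_eq_getElem (d := 0) _ ha]
      refine ⟨_, hw, mclFixed.getD a [], [mclPaths0, mclPaths1, mclPaths2].getD a [], _, mcl_fix a ha3, mcl_perm a ha3, ?_⟩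
      intro i hi
      interval_cases a
      · exact List.all_eq_true.mp mcl_move0 i (List.mem_range.mpr hi)
      · exact List.all_eq_true.mp mcl_move1 i (List.mem_range.mpr hi)
      · exact List.all_eq_true.mp mcl_move2 i (List.mem_range.mpr hi))
  have hp' := hsub hp
  clear hp
  induction hp' using Subgroup.closure_induction with
  | mem x hx =>
    obtain ⟨c, hc, hr⟩ := hx
    obtain ⟨g, q, hq, hgq⟩ := hact c hc
    obtain rfl := hr.unique hq
    exact ⟨g, g.2, hgq⟩
  | one => exact ⟨1, one_mem _, fun i => by rw [one_smul]; rfl⟩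
  | mul a b _ _ ha hb =>
    obtain ⟨g, hg, hga⟩ := ha
    obtain ⟨h, hh, hhb⟩ := hb
    exact ⟨g * h, mul_mem hg hh, fun i => by rw [mul_smul, hhb, hga]; rfl⟩
  | inv a _ ha =>
    obtain ⟨g, hg, hga⟩ := ha
    refine ⟨g⁻¹, inv_mem hg, fun i => ?_⟩
    rw [inv_smul_eq_iff, hga, show a (a⁻¹ i) = i from a.apply_symm_apply i]

theorem pair0 : pairSet mclPts 0 = {(⟨xStd, xStd_mem⟩ : ↥leechLattice)} := by
  obtain ⟨h1, h2, l1, l2⟩ := point0
  have e1 : vecL (mclPts.getD 0 (0, 0)).1 = ⟨xStd, xStd_mem⟩ := Subtype.ext (by rw [vecL_coe l1]; exact funext h1)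
  have e2 : vecL (mclPts.getD 0 (0, 0)).2 = ⟨xStd, xStd_mem⟩ := Subtype.ext (by rw [vecL_coe l2]; exact funext h2)
  rw [pairSet, e1, e2, Set.pair_eq_singleton]

/-- The points of a line. -/
def lineF (i : Fin 280) : Finset (Fin 275) := Finset.univ.filter fun k => (lines.getD i []).contains (k : ℕ)

/-- A line as a set of pairs. -/
def lineX (i : Fin 280) : Set (Set ↥leechLattice) := (fun k : Fin 275 => pairSet mclPts k) '' (lineF i : Set (Fin 275))

theorem pair_inj : Function.Injective fun k : Fin 275 => pairSet mclPts k := fun i j e =>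
  Fin.ext (pairSet_injective mcl_pts_ok (mcl_len.symm ▸ i.2) (mcl_len.symm ▸ j.2) e)

theorem line_facts (i : Fin 280) : (lines.getD i []).length = 4 ∧ (lines.getD i []).Nodup ∧
    (∀ k ∈ lines.getD i [], k < 275) ∧ ∀ j < (i : ℕ), ∃ k ∈ lines.getD i [], k ∉ lines.getD j [] := by
  have h := List.all_eq_true.mp lines_ok i (List.mem_range.mpr i.2)
  simp only [Bool.and_eq_true, decide_eq_true_eq] at h
  refine ⟨Nat.eq_of_beq_eq_true h.1.1.1, h.1.1.2,
    fun k hk => Nat.le_of_ble_eq_true (List.all_eq_true.mp h.1.2 k hk), fun j hj => ?_⟩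
  have h2 := List.all_eq_true.mp h.2 j (List.mem_range.mpr hj)
  simp only [Bool.not_eq_true', ← Bool.not_eq_true, List.all_eq_true, not_forall, List.contains_iff_mem] at h2
  obtain ⟨k, hk, hk'⟩ := h2
  exact ⟨k, hk, hk'⟩

theorem lineF_card (i : Fin 280) : (lineF i).card = 4 := by
  obtain ⟨h4, hn, hlt, -⟩ := line_facts i
  rw [← Finset.card_map Fin.valEmbedding, ← h4, ← List.toFinset_card_of_nodup hn]
  congr 1
  ext k
  simp only [lineF, Finset.mem_map, Finset.mem_filter, Finset.mem_univ, true_and, List.contains_iff_mem,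
    Fin.valEmbedding_apply, List.mem_toFinset]
  exact ⟨fun ⟨a, ha, e⟩ => e ▸ ha, fun h => ⟨⟨k, hlt k h⟩, h, rfl⟩⟩

theorem lineX_injective : Function.Injective lineX := by
  intro i j h
  have hF : lineF i = lineF j := Finset.coe_injective (Set.image_injective.mpr pair_inj h)
  have key : ∀ a b : Fin 280, (b : ℕ) < a → lineF a = lineF b → False := fun a b hlt he => by
    obtain ⟨-, -, hk275, hd⟩ := line_facts a
    obtain ⟨k, hk, hk'⟩ := hd b hlt
    have hm : (⟨k, hk275 k hk⟩ : Fin 275) ∈ lineF a := by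
      simp only [lineF, Finset.mem_filter, Finset.mem_univ, true_and, List.contains_iff_mem]
      exact hk
    rw [he] at hm
    simp only [lineF, Finset.mem_filter, Finset.mem_univ, true_and, List.contains_iff_mem] at hm
    exact hk' hm
  rcases Nat.lt_trichotomy (i : ℕ) j with h' | h' | h'
  · exact (key j i h' hF.symm).elim
  · exact Fin.ext h'
  · exact (key i j h' hF).elim

theorem card_stabX : Nat.card ↥StabX ≤ 3265920 := by
  classical
  haveI : Finite ↥StabUA := Nat.finite_of_card_ne_zero (by rw [card_mcl]; norm_num)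
  have hmul := (MulAction.stabilizer ↥StabUA (⟨xStd, xStd_mem⟩ : ↥leechLattice)).card_mul_index
  rw [MulAction.index_stabilizer, card_mcl] at hmul
  have he : Nat.card ↥(MulAction.stabilizer ↥StabUA (⟨xStd, xStd_mem⟩ : ↥leechLattice)) = Nat.card ↥StabX :=
    Nat.card_congr
      { toFun := fun g => ⟨g.1.1, g.1.2, g.2⟩
        invFun := fun g => ⟨⟨g.1, g.2.1⟩, g.2.2⟩
        left_inv := fun g => rfl
        right_inv := fun g => rfl }
  have hfin : (MulAction.orbit ↥StabUA (⟨xStd, xStd_mem⟩ : ↥leechLattice)).Finite := Set.finite_range _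
  have horb : 275 ≤ (MulAction.orbit ↥StabUA (⟨xStd, xStd_mem⟩ : ↥leechLattice)).ncard := by
    rw [← is275_count, ← Set.ncard_image_of_injective (MulAction.orbit ↥StabUA (⟨xStd, xStd_mem⟩ : ↥leechLattice))
      Subtype.val_injective]
    refine Set.ncard_le_ncard (fun y hy => ?_) (hfin.image _)
    obtain ⟨f, hf, fy⟩ := ((all275 xStd_275).trans (all275 hy).symm).elem (a := ⟨xStd, xStd_mem⟩)
      (b := ⟨y, hy.1.facts.1⟩) rfl rfl
    exact ⟨⟨y, hy.1.facts.1⟩, ⟨⟨f, hf uStd (by simp) _ rfl, hf aStd (by simp) _ rfl⟩, fy⟩, rfl⟩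
  rw [he] at hmul
  by_contra hlt
  have : 3265921 * 275 ≤ Nat.card ↥StabX * (MulAction.orbit ↥StabUA (⟨xStd, xStd_mem⟩ : ↥leechLattice)).ncard :=
    Nat.mul_le_mul (by omega) horb
  omega

theorem stabX_iso (F : Type) [Field F] [Fintype F] (hF : Fintype.card F = 9) : Nonempty (↥StabX ≃* PSU 4 F 3) := by
  classical
  obtain ⟨hcU, -, ⟨eU⟩⟩ := U43Mult.small_card hF
  haveI : Finite ↥StabUA := Nat.finite_of_card_ne_zero (by rw [card_mcl]; norm_num)
  haveI : Finite ↥StabX := Finite.of_injective (Subgroup.inclusion (inf_le_left : StabX ≤ StabUA))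
    (Subgroup.inclusion_injective _)
  obtain ⟨e⟩ := exists_model (G := ↥StabX) (n := 280) (f := lineX) lineX_injective
    (gens := U43Mult.gens.map Prod.fst) (fun c hc => by
      obtain ⟨j, hj, rfl⟩ := List.getElem_of_mem hc
      rw [List.length_map] at hj
      rw [List.getElem_map, ← List.getD_eq_getElem (d := (0, 0)) _ hj]
      have hj2 : j < 2 := U43Mult.gens_ok.2 ▸ hj
      have h := List.all_eq_true.mp lifts_ok j (List.mem_range.mpr hj2)
      simp only [Bool.and_eq_true, List.all_eq_true, List.mem_range, List.contains_iff_mem] at h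
      obtain ⟨⟨⟨hperm, hsift⟩, h0⟩, hline⟩ := h
      obtain ⟨q, hq⟩ := U43Mult.small_valid _ (List.mem_map.mpr ⟨_, List.getElem_mem hj, rfl⟩)
      rw [← List.getD_eq_getElem (d := (0, 0)) _ hj] at hq
      have hr := decP_rep hperm
      set p := decP 275 (lifts.getD j (0, 0)).1
      obtain ⟨g, hg, hgp⟩ := lift_mem (mem_of_sift (by norm_num) mcl_table mcl_model.1 _ _ hr hsift)
      have hp0 : p 0 = 0 := Fin.ext (by rw [← hr 0]; exact Nat.eq_of_beq_eq_true h0)
      have hgx : g • (⟨xStd, xStd_mem⟩ : ↥leechLattice) = ⟨xStd, xStd_mem⟩ := by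
        have h := hgp 0
        rw [hp0, Fin.val_zero, pair0, Set.smul_set_singleton, Set.singleton_eq_singleton_iff] at h
        exact h
      refine ⟨⟨g, hg, hgx⟩, q, hq, fun i => ?_⟩
      have himg : (lineF i).image p = lineF (q i) := by
        refine Finset.eq_of_subset_of_card_le (fun k hk => ?_)
          (by rw [lineF_card, Finset.card_image_of_injective _ p.injective, lineF_card])
        obtain ⟨a, ha, rfl⟩ := Finset.mem_image.mp hk
        simp only [lineF, Finset.mem_filter, Finset.mem_univ, true_and, List.contains_iff_mem] at ha ⊢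
        have h2 := hline i i.2 _ ha
        rwa [hq i, hr a] at h2
      show g • lineX i = lineX (q i)
      rw [lineX, lineX, ← himg, Finset.coe_image, Set.image_image, ← Set.image_smul, Set.image_image]
      exact Set.image_congr fun k _ => hgp k)
    (le_of_le_of_eq card_stabX hcU.symm)
  exact ⟨e.trans eU.symm⟩

/-- Any point stabiliser in the configuration is PSU(4, 3). -/
theorem point_stab {u v x : ↥leechLattice} (hu : sqNorm (u : GolayPt → ℤ) = 48)
    (hv : sqNorm (v : GolayPt → ℤ) = 32 ∧ sqNorm ((u : GolayPt → ℤ) - (v : GolayPt → ℤ)) = 32)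
    (hx : x ∈ {x : ↥leechLattice | sqNorm (x : GolayPt → ℤ) = 32 ∧
      sqNorm ((u : GolayPt → ℤ) - (x : GolayPt → ℤ)) = 32 ∧ dotInt (v : GolayPt → ℤ) (x : GolayPt → ℤ) = 16})
    (F : Type) [Field F] [Fintype F] (hF : Fintype.card F = 9) :
    Nonempty (↥(MulAction.stabilizer ↥Co0 u ⊓ MulAction.stabilizer ↥Co0 v ⊓ MulAction.stabilizer ↥Co0 x) ≃*
      PSU 4 F 3) := by
  obtain ⟨g, gu, gv⟩ := config_pairs (Or.inl rfl) hu hv.1 ((dot_of_diff hu hv.1).mp hv.2)
    (u' := ⟨uStd, uStd_mem⟩) (x' := ⟨aStd, aStd_mem⟩) std_facts.2.2.2.1 std_facts.2.2.2.2.1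
    std_facts.2.2.2.2.2.2.1
  have hgx : Is275 ((g • x : ↥leechLattice) : GolayPt → ℤ) := by
    obtain ⟨h1, h2, h3⟩ := hx
    have d1 := aut_dot g u x
    have d2 := aut_dot g v x
    rw [gu] at d1
    rw [gv] at d2
    exact ⟨(classify_dot (g • x).2 ((aut_norm g x).trans h1)).1 (d1.trans ((dot_of_diff hu h1).mp h2)), d2.trans h3⟩
  obtain ⟨f, hf, fx⟩ := ((all275 hgx).trans (all275 xStd_275).symm).elem (a := g • x) (b := ⟨xStd, xStd_mem⟩) rfl rfl
  have ku : (f * g) • u = ⟨uStd, uStd_mem⟩ := by rw [mul_smul, gu, hf uStd (by simp) _ rfl]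
  have kv : (f * g) • v = ⟨aStd, aStd_mem⟩ := by rw [mul_smul, gv, hf aStd (by simp) _ rfl]
  have kx : (f * g) • x = ⟨xStd, xStd_mem⟩ := by rw [mul_smul, fx]
  have hmap : (MulAction.stabilizer ↥Co0 u ⊓ MulAction.stabilizer ↥Co0 v ⊓ MulAction.stabilizer ↥Co0 x).map
      (MulAut.conj (f * g)).toMonoidHom = StabX := by
    simp only [StabX, StabUA]
    rw [← ku, ← kv, ← kx]
    simp only [MulAction.stabilizer_smul_eq_stabilizer_map_conj]
    rw [Subgroup.map_inf _ _ _ (MulAut.conj (f * g)).injective, Subgroup.map_inf _ _ _ (MulAut.conj (f * g)).injective]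
  obtain ⟨e⟩ := stabX_iso F hF
  exact ⟨((MulAut.conj (f * g)).subgroupMap _).trans ((MulEquiv.subgroupCongr hmap).trans e)⟩

end CfsgLib.McLPoint
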